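import Cfsg.Agent.Lib.H28.Fi23S.Perm
import Cfsg.Agent.Lib.H6.CoxOrders2

set_option autoImplicit false
set_option maxRecDepth 100000

/-!
# The tenth power of the spider is trivial when it is central (helper28)

In any group generated by involutions satisfying the Coxeter relations of `Y₂₄₂` in which the
tenth power `S` of the spider commutes with the generators, `S = 1`.  Indeed `S` lies in the
parabolic subgroup of type `E₈` (`spider_mem`), which acts faithfully on 2160 points, while `S`
acts trivially there.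
-/

namespace Cfsg.Agent.Lib.H28.Fi23S

open Cfsg.Agent.Lib.H17.CosetCert Equiv

/-- the relators as elements of the free group -/
def relsP : Set (FreeGroup ℕ) := {r | ∃ w ∈ relL, r = (w.map FreeGroup.of).prod}

/-- the presented group -/
abbrev P : Type := PresentedGroup relsP

/-- its generators (trivial beyond the ninth) -/
noncomputable def γP (x : ℕ) : P := if x < 9 then PresentedGroup.of x else 1

theorem mk_word (w : List ℕ) :
    (w.map (PresentedGroup.of (rels := relsP))).prod =
      PresentedGroup.mk relsP ((w.map FreeGroup.of).prod) := by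
  rw [map_list_prod, List.map_map]
  rfl

theorem word_P (w : List ℕ) (hw : w ∈ relL) :
    (w.map (PresentedGroup.of (rels := relsP))).prod = 1 := by
  rw [mk_word]
  exact PresentedGroup.one_of_mem ⟨w, hw, rfl⟩

theorem map_γP (w : List ℕ) (hw : ∀ x ∈ w, x < 9) : w.map γP = w.map PresentedGroup.of := by
  apply List.map_congr_left
  intro x hx
  unfold γP
  rw [if_pos (hw x hx)]

theorem rel_γP : ∀ w ∈ relL, (w.map γP).prod = 1 := fun w hw => by
  rw [map_γP w (letters_lt w hw)]
  exact word_P w hw

theorem sq_mem (x : ℕ) (hx : x < 9) : [x, x] ∈ relL := by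
  unfold relL sqL
  exact List.mem_append.mpr (Or.inl (List.mem_append.mpr (Or.inl (List.mem_append.mpr (Or.inr
    (List.mem_map.mpr ⟨x, List.mem_range.mpr hx, rfl⟩))))))

theorem γP_invol (x : ℕ) : γP x * γP x = 1 := by
  by_cases hx : x < 9
  · have := rel_γP [x, x] (sq_mem x hx)
    simpa using this
  · unfold γP
    rw [if_neg hx]
    simp

theorem spider_mem_P : (SW.map γP).prod ∈ E8 γP := spider_mem γP γP_invol rel_γP

/-! ### the permutation representation -/

/-- the action on 2160 points -/
noncomputable def πP : P →* Perm (Fin 2160) :=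
  PresentedGroup.toGroup (f := sP) (by
    rintro r ⟨w, hw, rfl⟩
    rw [map_list_prod, List.map_map]
    have : (⇑(FreeGroup.lift sP) ∘ FreeGroup.of) = sP := by
      funext x
      simp
    rw [this]
    exact rel_sP w hw)

theorem πP_γP (x : ℕ) (hx : x < 9) : πP (γP x) = sP x := by
  unfold γP
  rw [if_pos hx]
  exact PresentedGroup.toGroup.of _

theorem πP_word (w : List ℕ) (hw : ∀ x ∈ w, x < 9) : πP ((w.map γP).prod) = (w.map sP).prod := by
  rw [map_list_prod, List.map_map]
  congr 1
  apply List.map_congr_left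
  intro x hx
  exact πP_γP x (hw x hx)

/-! ### the Coxeter group of type `E₈` -/

/-- the letters of the nodes of `E₈` (in the numbering of Mathlib) -/
def e8 : Fin 8 → ℕ := ![8, 1, 7, 2, 3, 4, 5, 6]

theorem prod_pairs {K : Type*} [Group K] (g : ℕ → K) (x y m : ℕ) :
    (((List.replicate m [x, y]).flatten).map g).prod = (g x * g y) ^ m := by
  induction m with
  | zero => simp
  | succ m ih =>
    rw [List.replicate_succ, List.flatten_cons, List.map_append, List.prod_append, ih, pow_succ']
    simp

theorem cox_mem (x y : ℕ) (hy : y < 9) (hxy : x < y) : coxW x y ∈ relL := by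
  unfold relL coxL
  refine List.mem_append.mpr (Or.inl (List.mem_append.mpr (Or.inl (List.mem_append.mpr (Or.inl ?_)))))
  rw [List.mem_flatMap]
  refine ⟨x, List.mem_range.mpr (by omega), ?_⟩
  rw [List.mem_map]
  refine ⟨y, ?_, rfl⟩
  rw [List.mem_filter]
  exact ⟨List.mem_range.mpr hy, by simpa using hxy⟩

theorem pow_pair (x y : ℕ) (hy : y < 9) (hxy : x < y) : (γP x * γP y) ^ lab x y = 1 := by
  have := rel_γP _ (cox_mem x y hy hxy)
  unfold coxW at this
  rwa [prod_pairs] at this

theorem pow_swap {K : Type*} [Group K] (a b : K) (m : ℕ) (h : (a * b) ^ m = 1) :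
    (b * a) ^ m = 1 := by
  have e : b * a = a⁻¹ * (a * b) * a⁻¹⁻¹ := by group
  rw [e, conj_pow, h]
  group

theorem e8_lt (i : Fin 8) : e8 i < 9 := by
  fin_cases i <;> decide

theorem e8_pos (i : Fin 8) : 1 ≤ e8 i := by
  fin_cases i <;> decide

theorem e8_surj (x : ℕ) (h1 : 1 ≤ x) (h9 : x < 9) : ∃ i, e8 i = x := by
  interval_cases x
  · exact ⟨1, rfl⟩
  · exact ⟨3, rfl⟩
  · exact ⟨4, rfl⟩
  · exact ⟨5, rfl⟩
  · exact ⟨6, rfl⟩
  · exact ⟨7, rfl⟩
  · exact ⟨2, rfl⟩
  · exact ⟨0, rfl⟩

theorem lab_eq (i j : Fin 8) (h : e8 i < e8 j) : lab (e8 i) (e8 j) = CoxeterMatrix.E₈.M i j := by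
  fin_cases i <;> fin_cases j <;> first | rfl | exact absurd h (by decide)

theorem liftable : CoxeterMatrix.E₈.IsLiftable (fun i => γP (e8 i)) := by
  intro i j
  rcases lt_trichotomy (e8 i) (e8 j) with h | h | h
  · rw [← lab_eq i j h]
    exact pow_pair _ _ (e8_lt j) h
  · have hij : i = j := by
      fin_cases i <;> fin_cases j <;> first | rfl | exact absurd h (by decide)
    subst hij
    rw [CoxeterMatrix.diagonal, pow_one]
    exact γP_invol _
  · rw [CoxeterMatrix.symmetric, ← lab_eq j i h]
    exact pow_swap _ _ _ (pow_pair _ _ (e8_lt i) h)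

/-- the homomorphism from the Coxeter group of type `E₈` -/
noncomputable def ψ : CoxeterMatrix.E₈.Group →* P :=
  CoxeterMatrix.E₈.toCoxeterSystem.lift ⟨fun i => γP (e8 i), liftable⟩

theorem ψ_simple (i : Fin 8) : ψ (CoxeterMatrix.E₈.simple i) = γP (e8 i) := by
  unfold ψ
  rw [← CoxeterMatrix.E₈.toCoxeterSystem_simple]
  exact CoxeterMatrix.E₈.toCoxeterSystem.lift_apply_simple _ i

theorem E8_le_range : E8 γP ≤ ψ.range := by
  unfold E8
  rw [Subgroup.closure_le]
  rintro g ⟨x, h1, h9, rfl⟩
  obtain ⟨i, rfl⟩ := e8_surj x h1 h9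
  exact ⟨CoxeterMatrix.E₈.simple i, ψ_simple i⟩

open Cfsg.Agent.Lib.H6.CoxTC Cfsg.Agent.Lib.H6.CoxOrders in
theorem inj : Function.Injective (πP.comp ψ) := by
  haveI : Finite CoxeterMatrix.E₈.Group := ub_E8.1
  have hcard := card_E8
  have hle : Subgroup.closure (PS [1, 2, 3, 4, 5, 6, 7, 8]) ≤ (πP.comp ψ).range := by
    rw [Subgroup.closure_le]
    rintro g ⟨k, hk, rfl⟩
    have h1 : 1 ≤ k ∧ k < 9 := by
      simp only [List.mem_cons, List.not_mem_nil, or_false] at hk
      omega
    obtain ⟨i, rfl⟩ := e8_surj k h1.1 h1.2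
    exact ⟨CoxeterMatrix.E₈.simple i, by
      rw [MonoidHom.comp_apply, ψ_simple, πP_γP _ (e8_lt i)]⟩
  have h3 : 696729600 ≤ Nat.card (πP.comp ψ).range :=
    le_trans card_E8_ge (Nat.card_le_card_of_injective _ (Subgroup.inclusion_injective hle))
  have hbij := (πP.comp ψ).rangeRestrict_surjective.bijective_of_nat_card_le (by
    rw [hcard]; exact h3)
  intro a b hab
  apply hbij.1
  exact Subtype.ext hab

/-- **In the presented group the tenth power of the spider is trivial.** -/
theorem spider_P : (SW.map γP).prod = 1 := by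
  obtain ⟨w, hw⟩ := E8_le_range spider_mem_P
  have h1 : πP ((SW.map γP).prod) = 1 := by
    rw [πP_word SW SW_lt]
    exact SW_sP
  have h2 : (πP.comp ψ) w = (πP.comp ψ) 1 := by
    rw [MonoidHom.comp_apply, hw, h1, map_one]
  have hw1 := inj h2
  rw [← hw, hw1, map_one]

/-- **The tenth power of the spider is trivial** in every group with generators satisfying the
relator words `relL`: the squares, the Coxeter relations of `Y₂₄₂`, and the commutators of the
tenth power of the spider with the generators. -/
theorem spider_eq_one {Γ : Type*} [Group Γ] (g : ℕ → Γ) (hrel : ∀ w ∈ relL, (w.map g).prod = 1) :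
    (SW.map g).prod = 1 := by
  let Φ : P →* Γ := PresentedGroup.toGroup (f := g) (by
    rintro r ⟨w, hw, rfl⟩
    rw [map_list_prod, List.map_map]
    have : (⇑(FreeGroup.lift g) ∘ FreeGroup.of) = g := by
      funext x
      simp
    rw [this]
    exact hrel w hw)
  have h := congrArg Φ spider_P
  rw [map_one, map_list_prod, List.map_map] at h
  have e : SW.map (⇑Φ ∘ γP) = SW.map g := by
    apply List.map_congr_left
    intro x hx
    rw [Function.comp_apply]
    unfold γP
    rw [if_pos (SW_lt x hx)]
    exact PresentedGroup.toGroup.of _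
  rwa [e] at h

end Cfsg.Agent.Lib.H28.Fi23S
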