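import Cfsg.Agent.Lib.H28.Fi23S.Facts

set_option autoImplicit false
set_option maxRecDepth 100000

namespace Cfsg.Agent.Lib.H28.Fi23S

open Cfsg.Agent.Lib.H17.CosetCert

/-- the spider word -/
def spW : List ℕ := [2, 1, 0, 2, 3, 4, 2, 7, 8]

/-- the tenth power of the spider word -/
def SW : List ℕ := (List.replicate 10 spW).flatten

/-- the facts along the path of `SW` from the base point -/
def pathCode : ℕ := 0x700000600000100000300000200000100000800001000001800001e0000260000270000280000330000430000440000600000610000860000b50000f200013e0001ad00024b0003060004000005430005460006dd0008b3004662000ac900089f00089b00089c0008cd0008d00006f50006f20006f60006f80008e00008df0006fa0006fb0006f10006f00008d60008d50006ed0006eb0006e800089c000ad8000ada000ae9000aea004661000ac400088c0006bd00052f0003f30002fd0002320001960001290001280000dc0000da0000a800007e00005e00003d00002c00002900001f00001800001100001000000900000f00000e00000900000b00000a000009000008000000000001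

theorem path_ok : (walk F 9 16777216 18019 90 pathCode 0 SW).map (fun r => (r.2.1, r.2.2)) = some (0, []) := by
  decide +kernel

end Cfsg.Agent.Lib.H28.Fi23S
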