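import Cfsg.Agent.Lib.H28.Fi23S.StepsA
import Cfsg.Agent.Lib.H28.Fi23S.StepsB
import Cfsg.Agent.Lib.H28.Fi23S.Path

set_option autoImplicit false
set_option maxRecDepth 100000

/-!
# The tenth power of the spider lies in the `E₈` subgroup (helper28)

Letters `0, …, 8` stand for the nodes `b, c, d, e, f, g, j, h, i` of the Coxeter graph `Y₂₄₂`
(centre `d`; arms `d–c–b`, `d–e–f–g–j`, `d–h–i`).  In any group generated by involutions
`γ 0, …, γ 8` satisfying the Coxeter relations of this graph, in which the tenth power `S` of the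
spider `d c b d e f d h i` commutes with the nine generators, `S` lies in the subgroup generated
by `γ 1, …, γ 8` (the parabolic subgroup of type `E₈`).  The proof is a certified part of a
coset enumeration over that subgroup (helper17's `CosetCert`).
-/

namespace Cfsg.Agent.Lib.H28.Fi23S

open Cfsg.Agent.Lib.H17.CosetCert

/-- the Coxeter label of two letters `x < y` of `Y₂₄₂` -/
def lab (x y : ℕ) : ℕ :=
  if (x, y) ∈ [(0, 1), (1, 2), (2, 3), (3, 4), (4, 5), (5, 6), (2, 7), (7, 8)] then 3 else 2

/-- the Coxeter relator of two letters -/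
def coxW (x y : ℕ) : List ℕ := (List.replicate (lab x y) [x, y]).flatten

/-- the Coxeter relators -/
def coxL : List (List ℕ) :=
  (List.range 9).flatMap fun x => ((List.range 9).filter fun y => x < y).map fun y => coxW x y

/-- the squares -/
def sqL : List (List ℕ) := (List.range 9).map fun x => [x, x]

/-- the commutators of `S` with the letters -/
def longL : List (List ℕ) := (List.range 9).map fun x => SW ++ [x] ++ SW.reverse ++ [x]

/-- all the relator words -/
def relL : List (List ℕ) := coxL ++ sqL ++ [[]] ++ longL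

/-- the generators of the subgroup -/
def subL : List (List ℕ) := (List.range 8).map fun x => [x + 1]

theorem words_spec : ∀ v ∈ words.toList, (v.2 = true → v.1 ∈ relL) ∧ (v.2 = false → v.1 ∈ subL) := by
  decide +kernel

variable {G : Type*} [Group G] (γ : ℕ → G)

/-- the subgroup of type `E₈` -/
def E8 : Subgroup G := Subgroup.closure {g : G | ∃ x, 1 ≤ x ∧ x < 9 ∧ g = γ x}

theorem spider_mem (hinv : ∀ x, γ x * γ x = 1) (hrel : ∀ w ∈ relL, (w.map γ).prod = 1) :
    (SW.map γ).prod ∈ E8 γ := by
  set E := E8 γ with hE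
  let q0 : G ⧸ E := ((1 : G) : G ⧸ E)
  have hOK : WordsOK γ q0 words := by
    intro v hv
    obtain ⟨h1, h2⟩ := words_spec v hv
    refine ⟨fun hr q => act_eq_of_prod_eq_one γ hinv v.1 (hrel _ (h1 hr)) q, fun hr => ?_⟩
    have hm := h2 hr
    unfold subL at hm
    rw [List.mem_map] at hm
    obtain ⟨x, hx, hvx⟩ := hm
    rw [List.mem_range] at hx
    rw [← hvx]
    change γ (x + 1) • q0 = q0
    change γ (x + 1) • ((1 : G) : G ⧸ E) = ((1 : G) : G ⧸ E)
    rw [MulAction.Quotient.smul_mk, QuotientGroup.eq]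
    apply Subgroup.mul_mem _ (Subgroup.inv_mem _ ?_) (Subgroup.one_mem _)
    rw [smul_eq_mul, mul_one]
    exact Subgroup.subset_closure ⟨x + 1, by omega, by omega, rfl⟩
  have h0 := inv_zero F 9 γ q0
  have h1 := checkSteps_sound F 9 16777216 γ hinv q0 words hOK steps0 0 1 594 h0 chk0
  rw [len0] at h1
  have h2 := checkSteps_sound F 9 16777216 γ hinv q0 words hOK steps1 2000 594 1386 h1 chk1
  rw [len1] at h2
  have h3 := checkSteps_sound F 9 16777216 γ hinv q0 words hOK steps2 4000 1386 2275 h2 chk2
  rw [len2] at h3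
  have h4 := checkSteps_sound F 9 16777216 γ hinv q0 words hOK steps3 6000 2275 3222 h3 chk3
  rw [len3] at h4
  have h5 := checkSteps_sound F 9 16777216 γ hinv q0 words hOK steps4 8000 3222 4213 h4 chk4
  rw [len4] at h5
  have h6 := checkSteps_sound F 9 16777216 γ hinv q0 words hOK steps5 10000 4213 5199 h5 chk5
  rw [len5] at h6
  have h7 := checkSteps_sound F 9 16777216 γ hinv q0 words hOK steps6 12000 5199 6208 h6 chk6
  rw [len6] at h7
  have h8 := checkSteps_sound F 9 16777216 γ hinv q0 words hOK steps7 14000 6208 7208 h7 chk7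
  rw [len7] at h8
  have h9 := checkSteps_sound F 9 16777216 γ hinv q0 words hOK steps8 16000 7208 7629 h8 chk8
  rw [len8] at h9
  have h10 := checkSteps_sound F 9 16777216 γ hinv q0 words hOK steps9 18000 7629 7629 h9 chk9
  rw [len9] at h10
  obtain ⟨-, c, hc0, hfacts⟩ := h10
  have hval : ∀ f < 18019, Valid 9 γ c (F f) := fun f hf => (hfacts f hf).2.2
  have hp := path_ok
  cases hw : walk F 9 16777216 18019 90 pathCode 0 SW with
  | none => rw [hw] at hp; exact absurd hp (by simp)
  | some r =>
    obtain ⟨code', cur', rem'⟩ := r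
    rw [hw] at hp
    simp only [Option.map_some, Option.some.injEq, Prod.mk.injEq] at hp
    obtain ⟨rfl, rfl⟩ := hp
    obtain ⟨u, hu, hc⟩ := walk_sound F 9 16777216 γ hinv c 18019 hval 90 _ _ _ _ _ _ hw
    rw [List.append_nil] at hu
    subst hu
    rw [hc0, act_eq_smul, prod_reverse_of_invol γ hinv] at hc
    -- `hc : q0 = ((SW.map γ).prod)⁻¹ • q0`
    have hc' : (((SW.map γ).prod)⁻¹ • ((1 : G) : G ⧸ E)) = ((1 : G) : G ⧸ E) := hc.symm
    rw [MulAction.Quotient.smul_mk, QuotientGroup.eq] at hc'
    simpa using hc'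

end Cfsg.Agent.Lib.H28.Fi23S
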