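import Cfsg.Agent.Lib.H17.CosetPerm
import Cfsg.Agent.Lib.H6.CoxLB1
import Cfsg.Agent.Lib.H28.Fi23S.PermData
import Cfsg.Agent.Lib.H28.Fi23S.Mem

set_option autoImplicit false
set_option maxRecDepth 100000

/-!
# The action of the `Y₂₄₂` group on 2160 points (helper28)

The nine generators act on 2160 points (the cosets of the subgroup generated by all of them
but `j`); the Coxeter relations hold, the tenth power of the spider acts trivially, and the
parabolic subgroup of type `E₈` acts as a group of order at least `696729600`.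
-/

namespace Cfsg.Agent.Lib.H28.Fi23S

open Cfsg.Agent.Lib.H17.CosetCert Equiv

theorem tab_checks : ∀ k < 9, checkRange 12 4096 (tabP k) 2160 2160 = true ∧
    checkWord 12 4096 [tabP k, tabP k] 2160 = true := by
  decide +kernel

theorem good_tab (k : ℕ) (hk : k < 9) : Good 12 4096 2160 (tabP k) :=
  good_of_checks 12 4096 2160 (tabP k) (tab_checks k hk).1 (tab_checks k hk).2

/-- the permutation of a letter -/
noncomputable def sP (k : ℕ) : Perm (Fin 2160) := σ 12 4096 2160 (tabP k)

theorem sP_mul_self (k : ℕ) : sP k * sP k = 1 := σ_mul_self 12 4096 2160 (tabP k)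

theorem short_checks : ∀ w ∈ coxL ++ sqL ++ [[]], checkWord 12 4096 (w.map tabP) 2160 = true := by
  decide +kernel

theorem SW_check : checkWord 12 4096 (SW.map tabP) 2160 = true := by
  decide +kernel

theorem letters_lt : ∀ w ∈ relL, ∀ x ∈ w, x < 9 := by
  decide +kernel

theorem SW_lt : ∀ x ∈ SW, x < 9 := by
  decide +kernel

theorem prod_sP_of_check (w : List ℕ) (hw : ∀ x ∈ w, x < 9)
    (h : checkWord 12 4096 (w.map tabP) 2160 = true) : (w.map sP).prod = 1 := by
  have := prod_eq_one_of_check 12 4096 2160 (w.map tabP) (by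
    intro t ht
    obtain ⟨x, hx, rfl⟩ := List.mem_map.mp ht
    exact good_tab x (hw x hx)) h
  rw [List.map_map] at this
  exact this

theorem SW_sP : (SW.map sP).prod = 1 := prod_sP_of_check SW SW_lt SW_check

theorem rel_sP : ∀ w ∈ relL, (w.map sP).prod = 1 := by
  intro w hw
  have hlt := letters_lt w hw
  unfold relL at hw
  rw [List.mem_append] at hw
  rcases hw with hw | hw
  · exact prod_sP_of_check w hlt (short_checks w hw)
  · unfold longL at hw
    obtain ⟨x, -, rfl⟩ := List.mem_map.mp hw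
    have hSr : (SW.reverse.map sP).prod = 1 := by
      rw [List.map_reverse, prod_reverse_of_invol_list _ (fun g hg => by
        obtain ⟨t, -, rfl⟩ := List.mem_map.mp hg
        exact sP_mul_self t), SW_sP, inv_one]
    simp only [List.map_append, List.prod_append, List.map_cons, List.map_nil, List.prod_cons,
      List.prod_nil, SW_sP, hSr, one_mul, mul_one]
    exact sP_mul_self x

/-- the set of permutations of a list of letters -/
def PS (l : List ℕ) : Set (Perm (Fin 2160)) := {g | ∃ k ∈ l, g = sP k}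

theorem level_ge (gs hs : List ℕ) (x : ℕ) (ws : List (List ℕ))
    (hgs : ∀ k ∈ gs, k < 9) (hsub : ∀ k ∈ hs, k ∈ gs) (hx : x < 2160)
    (hfix : ∀ k ∈ hs, lk 12 4096 (tabP k) x = x)
    (hws : ∀ w ∈ ws, ∀ k ∈ w, k ∈ gs)
    (hnd : (ws.map fun w => applyT 12 4096 (w.map tabP) x).Nodup) :
    ws.length * Nat.card (Subgroup.closure (PS hs)) ≤ Nat.card (Subgroup.closure (PS gs)) := by
  classical
  let pt : List ℕ → Fin 2160 := fun w => ((w.map sP).reverse.prod) ⟨x, hx⟩
  have hval : ∀ w ∈ ws, ((pt w : Fin 2160) : ℕ) = applyT 12 4096 (w.map tabP) x := by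
    intro w hw
    have := prod_reverse_apply 12 4096 2160 (w.map tabP) (by
      intro t ht
      obtain ⟨k, hk, rfl⟩ := List.mem_map.mp ht
      exact good_tab k (hgs k (hws w hw k hk))) ⟨x, hx⟩
    rw [List.map_map] at this
    exact this
  have hnd' : (ws.map pt).Nodup := by
    have h1 : (ws.map pt).map Fin.val = ws.map fun w => applyT 12 4096 (w.map tabP) x := by
      rw [List.map_map]
      apply List.map_congr_left
      intro w hw
      exact hval w hw
    have h2 : ((ws.map pt).map Fin.val).Nodup := by rw [h1]; exact hnd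
    exact List.Nodup.of_map _ h2
  have := Cfsg.Agent.Lib.H6.CoxLB.card_closure_ge (PS gs) (PS hs)
    (by rintro g ⟨k, hk, rfl⟩; exact ⟨k, hsub k hk, rfl⟩) ⟨x, hx⟩
    (by
      rintro t ⟨k, hk, rfl⟩
      apply Fin.ext
      unfold sP
      rw [σ_apply 12 4096 2160 _ (good_tab k (hgs k (hsub k hk)))]
      exact hfix k hk)
    (ws.map pt).toFinset
    (by
      intro y hy
      rw [List.mem_toFinset, List.mem_map] at hy
      obtain ⟨w, hw, rfl⟩ := hy
      refine ⟨(w.map sP).reverse.prod, ?_, rfl⟩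
      apply Subgroup.list_prod_mem
      intro g hg
      rw [List.mem_reverse, List.mem_map] at hg
      obtain ⟨k, hk, rfl⟩ := hg
      exact Subgroup.subset_closure ⟨k, hws w hw k hk, rfl⟩)
  rw [List.toFinset_card_of_nodup hnd', List.length_map] at this
  exact this

/-- the checks of one level -/
def LevelOK (gs hs : List ℕ) (x : ℕ) (ws : List (List ℕ)) : Prop :=
  (∀ k ∈ gs, k < 9) ∧ (∀ k ∈ hs, k ∈ gs) ∧ x < 2160 ∧
    (∀ k ∈ hs, lk 12 4096 (tabP k) x = x) ∧ (∀ w ∈ ws, ∀ k ∈ w, k ∈ gs) ∧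
    (ws.map fun w => applyT 12 4096 (w.map tabP) x).Nodup

theorem level_ge' {gs hs : List ℕ} {x : ℕ} {ws : List (List ℕ)} (h : LevelOK gs hs x ws) :
    ws.length * Nat.card (Subgroup.closure (PS hs)) ≤ Nat.card (Subgroup.closure (PS gs)) :=
  level_ge gs hs x ws h.1 h.2.1 h.2.2.1 h.2.2.2.1 h.2.2.2.2.1 h.2.2.2.2.2

theorem lv0_ok : LevelOK lvG0 lvH0 lvX0 lvW0 := by unfold LevelOK; decide +kernel
theorem lv1_ok : LevelOK lvG1 lvG0 lvX1 lvW1 := by unfold LevelOK; decide +kernel
theorem lv2_ok : LevelOK lvG2 lvG1 lvX2 lvW2 := by unfold LevelOK; decide +kernel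
theorem lv3_ok : LevelOK lvG3 lvG2 lvX3 lvW3 := by unfold LevelOK; decide +kernel
theorem lv4_ok : LevelOK lvG4 lvG3 lvX4 lvW4 := by unfold LevelOK; decide +kernel
theorem lv5_ok : LevelOK lvG5 lvG4 lvX5 lvW5 := by unfold LevelOK; decide +kernel
theorem lv6_ok : LevelOK lvG6 lvG5 lvX6 lvW6 := by unfold LevelOK; decide +kernel

theorem lens : lvW0.length = 2 ∧ lvW1.length = 6 ∧ lvW2.length = 10 ∧ lvW3.length = 16 ∧
    lvW4.length = 27 ∧ lvW5.length = 56 ∧ lvW6.length = 240 := by
  decide +kernel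

/-- the parabolic subgroup of type `E₈` acts as a group of order at least `|W(E₈)|` -/
theorem card_E8_ge : 696729600 ≤ Nat.card (Subgroup.closure (PS [1, 2, 3, 4, 5, 6, 7, 8])) := by
  have h0 := level_ge' lv0_ok
  have h1 := level_ge' lv1_ok
  have h2 := level_ge' lv2_ok
  have h3 := level_ge' lv3_ok
  have h4 := level_ge' lv4_ok
  have h5 := level_ge' lv5_ok
  have h6 := level_ge' lv6_ok
  obtain ⟨l0, l1, l2, l3, l4, l5, l6⟩ := lens
  rw [l0] at h0
  rw [l1] at h1
  rw [l2] at h2
  rw [l3] at h3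
  rw [l4] at h4
  rw [l5] at h5
  rw [l6] at h6
  have hb : 1 ≤ Nat.card (Subgroup.closure (PS lvH0)) := Nat.card_pos
  have hG6 : lvG6 = [1, 2, 3, 4, 5, 6, 7, 8] := by decide
  rw [hG6] at h6
  nlinarith [h0, h1, h2, h3, h4, h5, h6, hb]

end Cfsg.Agent.Lib.H28.Fi23S
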